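import Groth.Agent.Posit43.Sections
import Groth.Agent.VarGrow31.Basic
import Groth.Agent.SurfInt.Basic

/-!
# Growth of cohomology along several invertible modules

For invertible modules `F a`, `a ∈ ℤ^r`, multiplicative in `a`, and `M` coherent with `dim Supp M ≤ d`
on a scheme with an ample module, `dim H^i(X, M ⊗ F a) = O((|a| + 1)^d)`.
-/

set_option linter.style.haveILetI false
set_option linter.unusedSectionVars false
set_option backward.isDefEq.respectTransparency false
set_option backward.isDefEq.respectTransparency.types false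

universe u

open CategoryTheory CategoryTheory.Limits AlgebraicGeometry TopologicalSpace Opposite
open scoped Groth.Agent.H23.PicMul

attribute [local instance] HasDerivedCategory.standard

noncomputable section

namespace Groth.Agent.MultiGrowth43

open Groth.Agent HilbPoly VarGrow31 Posit43

variable {X : Scheme.{u}} {r : ℕ}

/-- A multiplicative family of invertible modules on `ℤ^r`. -/
structure Fam (L : Fin r → X.Modules) (F : (Fin r → ℤ) → X.Modules) : Prop where
  inv : ∀ j, PicF.IsInvertible (L j)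
  zero : PicF.cl (F 0) = 1
  succ : ∀ a j, PicF.cl (F (a + Pi.single j 1)) = PicF.cl (F a) * PicF.cl (L j)

/-- The size of an index. -/
def size (a : Fin r → ℤ) : ℕ := ∑ j, (a j).natAbs

theorem exists_smaller {a : Fin r → ℤ} {n : ℕ} (ha : size a = n + 1) :
    ∃ j, (size (a - Pi.single j 1) = n) ∨ (size (a + Pi.single j 1) = n) := by
  classical
  obtain ⟨j, -, hj⟩ := Finset.exists_ne_zero_of_sum_ne_zero
    (show ∑ j, (a j).natAbs ≠ 0 by rw [← size, ha]; omega)
  refine ⟨j, ?_⟩
  have key : ∀ b : Fin r → ℤ, (∀ i, i ≠ j → b i = a i) → size b + (a j).natAbs = size a + (b j).natAbs := by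
    intro b hb
    rw [size, size, ← Finset.add_sum_erase _ _ (Finset.mem_univ j), ← Finset.add_sum_erase _ _ (Finset.mem_univ j)]
    rw [Finset.sum_congr rfl fun i hi => by rw [hb i (Finset.ne_of_mem_erase hi)]]
    omega
  rcases le_or_gt (a j) 0 with h | h
  · right
    have := key (a + Pi.single j 1) fun i hi => by simp [Pi.single_eq_of_ne hi]
    simp only [Pi.add_apply, Pi.single_eq_same] at this
    omega
  · left
    have := key (a - Pi.single j 1) fun i hi => by simp [Pi.single_eq_of_ne hi]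
    simp only [Pi.sub_apply, Pi.single_eq_same] at this
    omega

theorem isInvertible_of_tensor {A L : X.Modules} (hL : PicF.IsInvertible L)
    (h : PicF.IsInvertible (CohB1.tensorMod A L)) : PicF.IsInvertible A := by
  obtain ⟨D, hD, ⟨e⟩⟩ := H23.PicInv.exists_inverse hL
  refine H23.PicMul.isInvertible_of_iso (H23.PicMul.cl_eq_iff.1 ?_).some (H23.PicMul.isInvertible_tensor h hD)
  have h2 : PicF.cl L * PicF.cl D = 1 := by
    rw [← H23.PicMul.cl_tensor, H23.PicMul.one_def]; exact H23.PicMul.cl_eq_iff.2 ⟨e⟩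
  rw [H23.PicMul.cl_tensor, H23.PicMul.cl_tensor, mul_assoc, h2, mul_one]

theorem Fam.isInvertible {L : Fin r → X.Modules} {F : (Fin r → ℤ) → X.Modules} (hF : Fam L F) :
    ∀ a, PicF.IsInvertible (F a) := by
  suffices ∀ (n : ℕ) a, size a = n → PicF.IsInvertible (F a) from fun a => this _ a rfl
  intro n
  induction n with
  | zero =>
    intro a ha
    obtain rfl : a = 0 := funext fun j => Int.natAbs_eq_zero.1 ((Finset.sum_eq_zero_iff.1 ha) j (Finset.mem_univ j))
    exact H23.PicMul.isInvertible_of_iso (H23.PicMul.cl_eq_iff.1 (hF.zero.symm.trans rfl)).some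
      InvX.isInvertible_structureModule
  | succ n ih =>
    intro a ha
    obtain ⟨j, h | h⟩ := exists_smaller ha
    · have h1 := hF.succ (a - Pi.single j 1) j
      rw [sub_add_cancel, ← H23.PicMul.cl_tensor] at h1
      exact H23.PicMul.isInvertible_of_iso (H23.PicMul.cl_eq_iff.1 h1.symm).some
        (H23.PicMul.isInvertible_tensor (ih _ h) (hF.inv j))
    · refine isInvertible_of_tensor (hF.inv j) ?_
      have h1 := hF.succ a j
      rw [← H23.PicMul.cl_tensor] at h1
      exact H23.PicMul.isInvertible_of_iso (H23.PicMul.cl_eq_iff.1 h1).some (ih _ h)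

variable (k : Type u) [Field k] [X.Over (Spec (CommRingCat.of k))]

/-- The dimensions along the family. -/
def hh (F : (Fin r → ℤ) → X.Modules) (M : X.Modules) (i : ℕ) (a : Fin r → ℤ) : ℕ := hd k (F a) M i 1

/-- The bound of order less than `d`. -/
def Bd (F : (Fin r → ℤ) → X.Modules) : ℕ → X.Modules → Prop
  | 0, M => ∀ i a, hh k F M i a = 0
  | d + 1, M => ∀ i, ∃ C : ℕ, ∀ a, hh k F M i a ≤ C * (size a + 1) ^ d

theorem bd_of_le {F : (Fin r → ℤ) → X.Modules} {d : ℕ} {M N P : X.Modules} (hN : Bd k F d N) (hP : Bd k F d P)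
    (h : ∀ i, ∃ i', ∀ a, hh k F M i a ≤ hh k F N i a + hh k F P i' a) : Bd k F d M := by
  cases d with
  | zero => exact fun i a => by obtain ⟨i', h'⟩ := h i; have := h' a; rw [hN i a, hP i' a] at this; omega
  | succ d =>
    intro i
    obtain ⟨i', h'⟩ := h i
    obtain ⟨C, hC⟩ := hN i
    obtain ⟨C', hC'⟩ := hP i'
    exact ⟨C + C', fun a => (h' a).trans (by rw [add_mul]; exact add_le_add (hC a) (hC' a))⟩

variable [IsProper (X ↘ Spec (CommRingCat.of k))] {L : Fin r → X.Modules} {F : (Fin r → ℤ) → X.Modules}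
  (hF : Fam L F)
include hF

/-- Comparison of neighbours. -/
theorem step {M H : X.Modules} (hM : Coh.IsCoh M) (hH : PicF.IsInvertible H) (j : Fin r)
    (s : Coh.structureModule X ⟶ H) (t : Coh.structureModule X ⟶ CohB1.tensorMod (L j) H)
    [Mono (mulHom s M)] [Mono (mulHom t M)] (i : ℕ) (b : Fin r → ℤ) :
    hh k F M i (b + Pi.single j 1) ≤ hh k F M i b +
      (hh k F (cokernel (mulHom s M)) (i - 1) (b + Pi.single j 1) + hh k F (cokernel (mulHom t M)) i b) ∧
    hh k F M i b ≤ hh k F M i (b + Pi.single j 1) +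
      (hh k F (cokernel (mulHom s M)) i (b + Pi.single j 1) + hh k F (cokernel (mulHom t M)) (i - 1) b) := by
  haveI := CurveCohLib.isNoetherian_of_proper (k := k) (X := X)
  have hs2 : Coh.IsCoh (CohB1.tensorMod M H) := AmpleVan.isCoh_tensor hM (AmpleVan.isCoh_invertible hH)
  have ht2 : Coh.IsCoh (CohB1.tensorMod M (CohB1.tensorMod (L j) H)) :=
    AmpleVan.isCoh_tensor hM (AmpleVan.isCoh_invertible (H23.PicMul.isInvertible_tensor (hF.inv j) hH))
  have hS : (ShortComplex.mk (mulHom s M) (cokernel.π _) (cokernel.condition _)).ShortExact :=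
    .mk' (ShortComplex.exact_of_g_is_cokernel _ (cokernelIsCokernel _)) ‹_› inferInstance
  have hT : (ShortComplex.mk (mulHom t M) (cokernel.π _) (cokernel.condition _)).ShortExact :=
    .mk' (ShortComplex.exact_of_g_is_cokernel _ (cokernelIsCokernel _)) ‹_› inferInstance
  have hcs := QCoh.isCoh_cokernel hM.1 hs2 (mulHom s M)
  have hct := QCoh.isCoh_cokernel hM.1 ht2 (mulHom t M)
  have e : hh k F (CohB1.tensorMod M H) i (b + Pi.single j 1) =
      hh k F (CohB1.tensorMod M (CohB1.tensorMod (L j) H)) i b :=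
    (CurveCohLib.hhEquiv (k := k) (H23.PicMul.cl_eq_iff.1 (by
      show PicF.cl (CohB1.tensorMod (CohB1.tensorMod M H) (CohB1.tensorPow (F (b + Pi.single j 1)) 1)) =
        PicF.cl (CohB1.tensorMod (CohB1.tensorMod M (CohB1.tensorMod (L j) H)) (CohB1.tensorPow (F b) 1))
      rw [H23.PicMul.cl_tensor, H23.PicMul.cl_tensor, H23.PicMul.cl_tensor, H23.PicMul.cl_tensor,
        H23.PicMul.cl_tensor, H23.PicMul.cl_tensorPow, H23.PicMul.cl_tensorPow, pow_one, pow_one, hF.succ]
      ac_rfl)).some i).finrank_eq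
  have lo : ∀ (S : ShortComplex X.Modules), S.ShortExact → Coh.IsCoh S.X₁ → Coh.IsCoh S.X₂ → Coh.IsCoh S.X₃ →
      ∀ c, hh k F S.X₁ i c ≤ hh k F S.X₂ i c + hh k F S.X₃ (i - 1) c ∧
        hh k F S.X₂ i c ≤ hh k F S.X₁ i c + hh k F S.X₃ i c := fun S hS h₁ h₂ h₃ c => by
    refine ⟨?_, (twist_bounds k (hF.isInvertible c) hS h₁ h₂ h₃ i 1).1⟩
    cases i with
    | zero => exact ((twist_bounds k (hF.isInvertible c) hS h₁ h₂ h₃ 0 1).2.1).trans (Nat.le_add_right _ _)
    | succ i => exact (twist_bounds k (hF.isInvertible c) hS h₁ h₂ h₃ i 1).2.2.1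
  obtain ⟨a1, a2⟩ := lo _ hS hM hs2 hcs (b + Pi.single j 1)
  obtain ⟨b1, b2⟩ := lo _ hT hM ht2 hct b
  dsimp only at a1 a2 b1 b2
  constructor <;> omega

/-- Neighbouring bounds give a bound of one order higher. -/
theorem bd_succ {d : ℕ} {M : X.Modules}
    (h : ∀ j : Fin r, ∃ P Q : X.Modules, Bd k F d P ∧ Bd k F d Q ∧ ∀ i b,
      hh k F M i (b + Pi.single j 1) ≤ hh k F M i b + (hh k F P (i - 1) (b + Pi.single j 1) + hh k F Q i b) ∧
      hh k F M i b ≤ hh k F M i (b + Pi.single j 1) + (hh k F P i (b + Pi.single j 1) + hh k F Q (i - 1) b)) :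
    Bd k F (d + 1) M := by
  classical
  choose P Q hP hQ hPQ using h
  intro i
  cases d with
  | zero =>
    refine ⟨hh k F M i 0, ?_⟩
    suffices ∀ (n : ℕ) a, size a = n → hh k F M i a ≤ hh k F M i 0 from
      fun a => by rw [pow_zero, mul_one]; exact this _ a rfl
    intro n
    induction n with
    | zero =>
      intro a ha
      obtain rfl : a = 0 := funext fun j => Int.natAbs_eq_zero.1 ((Finset.sum_eq_zero_iff.1 ha) j (Finset.mem_univ j))
      exact le_rfl
    | succ n ih =>
      intro a ha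
      obtain ⟨j, h | h⟩ := exists_smaller ha
      · have := (hPQ j i (a - Pi.single j 1)).1
        rw [sub_add_cancel, hP j, hQ j] at this
        have := ih _ h
        omega
      · have := (hPQ j i a).2
        rw [hP j, hQ j] at this
        have := ih _ h
        omega
  | succ d =>
    choose C₁ hC₁ using fun j => hP j i
    choose C₂ hC₂ using fun j => hP j (i - 1)
    choose C₃ hC₃ using fun j => hQ j i
    choose C₄ hC₄ using fun j => hQ j (i - 1)
    obtain ⟨C, hC⟩ : ∃ C, ∀ j, C₁ j + C₂ j + C₃ j + C₄ j ≤ C :=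
      ⟨Finset.univ.sup fun j => C₁ j + C₂ j + C₃ j + C₄ j, fun j => Finset.le_sup (f := fun j => C₁ j + C₂ j + C₃ j + C₄ j) (Finset.mem_univ j)⟩
    refine ⟨hh k F M i 0 + C, ?_⟩
    suffices ∀ (n : ℕ) a, size a = n → hh k F M i a ≤ (hh k F M i 0 + C) * (n + 1) ^ (d + 1) from
      fun a => this _ a rfl
    intro n
    induction n with
    | zero =>
      intro a ha
      obtain rfl : a = 0 := funext fun j => Int.natAbs_eq_zero.1 ((Finset.sum_eq_zero_iff.1 ha) j (Finset.mem_univ j))
      simp
    | succ n ih =>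
      intro a ha
      have hpow : (hh k F M i 0 + C) * (n + 1) ^ (d + 1) + C * (n + 1 + 1) ^ d ≤
          (hh k F M i 0 + C) * (n + 1 + 1) ^ (d + 1) := by
        have h1 : (n + 1) ^ (d + 1) + (n + 1 + 1) ^ d ≤ (n + 1 + 1) ^ (d + 1) := by
          rw [pow_succ, pow_succ]
          calc (n + 1) ^ d * (n + 1) + (n + 1 + 1) ^ d ≤ (n + 1 + 1) ^ d * (n + 1) + (n + 1 + 1) ^ d :=
                Nat.add_le_add_right (Nat.mul_le_mul_right _ (Nat.pow_le_pow_left (n + 1).le_succ d)) _
            _ = _ := by ring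
        calc _ ≤ (hh k F M i 0 + C) * (n + 1) ^ (d + 1) + (hh k F M i 0 + C) * (n + 1 + 1) ^ d :=
              Nat.add_le_add_left (Nat.mul_le_mul_right _ (Nat.le_add_left _ _)) _
          _ ≤ _ := by rw [← mul_add]; exact Nat.mul_le_mul_left _ h1
      have hp : ∀ {C' : ℕ} {b : Fin r → ℤ}, size b ≤ n + 1 → C' * (size b + 1) ^ d ≤ C' * (n + 1 + 1) ^ d :=
        fun hb => Nat.mul_le_mul_left _ (Nat.pow_le_pow_left (by omega) d)
      obtain ⟨j, h | h⟩ := exists_smaller ha
      · have h1 := (hPQ j i (a - Pi.single j 1)).1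
        rw [sub_add_cancel] at h1
        have h2 := (hC₂ j a).trans (hp ha.le)
        have h3 := (hC₃ j (a - Pi.single j 1)).trans (hp (by omega))
        have h4 := ih _ h
        have h5 : (C₂ j + C₃ j) * (n + 1 + 1) ^ d ≤ C * (n + 1 + 1) ^ d :=
          Nat.mul_le_mul_right _ (by have := hC j; omega)
        rw [add_mul] at h5
        omega
      · have h1 := (hPQ j i a).2
        have h2 := (hC₁ j (a + Pi.single j 1)).trans (hp (by omega))
        have h3 := (hC₄ j a).trans (hp ha.le)
        have h4 := ih _ h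
        have h5 : (C₁ j + C₄ j) * (n + 1 + 1) ^ d ≤ C * (n + 1 + 1) ^ d :=
          Nat.mul_le_mul_right _ (by have := hC j; omega)
        rw [add_mul] at h5
        omega

omit hF in
theorem hh_of_isZero {A : X.Modules} (hA : IsZero A) (i : ℕ) (a : Fin r → ℤ) : hh k F A i a = 0 := by
  haveI := Euler.subsingleton_HH_of_isZero (M := (AmpleVan.tw (CohB1.tensorPow (F a) 1)).obj A)
    ((AmpleVan.tw (CohB1.tensorPow (F a) 1)).map_isZero hA) i
  exact Module.finrank_zero_of_subsingleton (R := k)
    (M := Coh.HH X ((AmpleVan.tw (CohB1.tensorPow (F a) 1)).obj A) i)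

/-- The bound by the dimension of the support. -/
theorem bd_of_support {A : X.Modules} (hA : CohB1.IsAmple A) :
    ∀ (d : ℕ) (M : X.Modules), Coh.IsCoh M → DimLT M d → Bd k F d M := by
  haveI := CurveCohLib.isNoetherian_of_proper (k := k) (X := X)
  intro d
  induction d with
  | zero =>
    intro M _ hd' i a
    exact hh_of_isZero k (CurveCohLib.isZero_of_subsingleton_stalks fun x => not_not.1 fun hx =>
      Set.eq_empty_iff_forall_notMem.1 (support_eq_empty_of_dimLT_zero hd') x hx) i a
  | succ d ih =>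
    intro M hM hd'
    refine devissage_pieces (fun M => Bd k F (d + 1) M)
      (fun {P Q} φ h i => (h i).imp fun C hC a => (hd_congr k φ i 1).ge.trans (hC a))
      (fun {P} hP i => ⟨0, fun a => by rw [hh_of_isZero k hP]; exact Nat.zero_le _⟩)
      (fun S hS h₁ h₂ h₃ a c => bd_of_le k a c fun i => ⟨i, fun q =>
        (twist_bounds k (hF.isInvertible q) hS h₁ h₂ h₃ i 1).1⟩)
      (T := CohB1.support M) (fun Z q _ _ I ι _ hI hI0 hsub => ?_) hM subset_rfl
    have hdξ : topologicalKrullDim ↥(closure ({q (genericPoint Z)} : Set X)) ≤ (d : WithBot ℕ∞) :=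
      le_of_lt_succ ((H23.TopDim.dim_le_dim_of_subset hsub).trans_lt hd')
    obtain ⟨S, hS, e₁, e₂, h₁, h₂, h₃, h3d⟩ := exists_piece_quot q ι hI hI0 hdξ
    have hO := QCoh.isCoh_push_structure (X := X) q
    haveI : IsLocallyNoetherian Z := LocallyOfFiniteType.isLocallyNoetherian q
    have hOZ : Bd k F (d + 1) ((Coh.push q).obj (Coh.structureModule Z)) := by
      refine bd_succ k hF fun j => ?_
      obtain ⟨b, s, t, -, hs, ht⟩ := exists_sections_at hA (hF.inv j) (q (genericPoint Z))
      have hH := InvX.isInvertible_tensorPow hA.1 b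
      have hN := H23.PicMul.isInvertible_tensor (hF.inv j) hH
      haveI := mono_mulHom_piece q (𝟙 (Coh.structureModule Z)) s hs
      haveI := mono_mulHom_piece q (𝟙 (Coh.structureModule Z)) t ht
      exact ⟨_, _,
        ih _ (QCoh.isCoh_cokernel hO.1 (AmpleVan.isCoh_tensor hO (AmpleVan.isCoh_invertible hH)) _)
          (dimLT_cokernel_piece q (𝟙 _) hH s hs QCoh.isCoh_structureModule' hdξ),
        ih _ (QCoh.isCoh_cokernel hO.1 (AmpleVan.isCoh_tensor hO (AmpleVan.isCoh_invertible hN)) _)
          (dimLT_cokernel_piece q (𝟙 _) hN t ht QCoh.isCoh_structureModule' hdξ),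
        step k hF hO hH j s t⟩
    have hQ : Bd k F (d + 1) S.X₃ := by
      cases d with
      | zero => exact fun i => ⟨0, fun a => by rw [ih _ h₃ h3d i a]; exact Nat.zero_le _⟩
      | succ d =>
        exact fun i => (ih _ h₃ h3d i).imp fun C hC a =>
          le_trans (hC a) (Nat.mul_le_mul_left C (Nat.pow_le_pow_right (Nat.succ_pos _) d.le_succ))
    refine bd_of_le k hOZ hQ fun i => ⟨i - 1, fun a => ?_⟩
    rw [← e₁, ← e₂]
    cases i with
    | zero => exact ((twist_bounds k (hF.isInvertible a) hS h₁ h₂ h₃ 0 1).2.1).trans (Nat.le_add_right _ _)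
    | succ i => exact (twist_bounds k (hF.isInvertible a) hS h₁ h₂ h₃ i 1).2.2.1

/-- A uniform real bound. -/
theorem exists_bound {A : X.Modules} (hA : CohB1.IsAmple A) {d : ℕ} (hd' : topologicalKrullDim X = d) :
    ∃ C : ℝ, 0 < C ∧ ∀ (i : ℕ) (a : Fin r → ℤ),
      (Module.finrank k (Coh.HH X (F a) i) : ℝ) ≤ C * (1 + (∑ j, |(a j : ℝ)|) ^ d) := by
  haveI := CurveCohLib.isNoetherian_of_proper (k := k) (X := X)
  have h := bd_of_support k hF hA (d + 1) _ QCoh.isCoh_structureModule'
    (lt_succ_of_le (SurfInt.dim_support_le hd'.le _))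
  choose C hC using h
  obtain ⟨B, hB⟩ := Euler.exists_bound (X := X) k
  refine ⟨(2 ^ d : ℝ) * (((Finset.range B).sup C : ℕ) + 1), by positivity, fun i a => ?_⟩
  have hs : (size a : ℝ) = ∑ j, |(a j : ℝ)| := by
    rw [size, Nat.cast_sum]
    refine Finset.sum_congr rfl fun j _ => ?_
    rw [← Int.cast_natCast (R := ℝ), Int.natCast_natAbs, Int.cast_abs]
  rw [← hs]
  rcases Nat.lt_or_ge i B with hi | hi
  · have e : hh k F (Coh.structureModule X) i a = Module.finrank k (Coh.HH X (F a) i) :=
      (CurveCohLib.hhEquiv (k := k) (H23.PicMul.cl_eq_iff.1 (by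
        show PicF.cl (CohB1.tensorMod (Coh.structureModule X) (CohB1.tensorPow (F a) 1)) = _
        rw [H23.PicMul.cl_tensor, H23.PicMul.cl_tensorPow, pow_one, ← H23.PicMul.one_def, one_mul])).some i).finrank_eq
    have h1 := hC i a
    rw [e] at h1
    have h2 : (Module.finrank k (Coh.HH X (F a) i) : ℝ) ≤ (((Finset.range B).sup C : ℕ) : ℝ) * ((size a : ℝ) + 1) ^ d := by
      refine le_trans (Nat.cast_le.2 (h1.trans (Nat.mul_le_mul_right _ (Finset.le_sup (Finset.mem_range.2 hi))))) ?_
      push_cast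
      exact le_rfl
    have h3 : ((size a : ℝ) + 1) ^ d ≤ 2 ^ d * (1 + (size a : ℝ) ^ d) := by
      rcases le_or_gt 1 (size a : ℝ) with h | h
      · calc ((size a : ℝ) + 1) ^ d ≤ (2 * (size a : ℝ)) ^ d := pow_le_pow_left₀ (by positivity) (by linarith) d
          _ ≤ _ := by rw [mul_pow]; exact mul_le_mul_of_nonneg_left (le_add_of_nonneg_left zero_le_one) (by positivity)
      · calc ((size a : ℝ) + 1) ^ d ≤ (2 : ℝ) ^ d := pow_le_pow_left₀ (by positivity) (by linarith) d
          _ ≤ _ := le_mul_of_one_le_right (by positivity) (le_add_of_nonneg_right (by positivity))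
    calc _ ≤ _ := h2
      _ ≤ (((Finset.range B).sup C : ℕ) : ℝ) * (2 ^ d * (1 + (size a : ℝ) ^ d)) :=
        mul_le_mul_of_nonneg_left h3 (Nat.cast_nonneg _)
      _ ≤ (((Finset.range B).sup C : ℕ) + 1 : ℝ) * (2 ^ d * (1 + (size a : ℝ) ^ d)) :=
        mul_le_mul_of_nonneg_right (by linarith) (by positivity)
      _ = _ := by ring
  · haveI := hB (F a) (AmpleVan.isCoh_invertible (hF.isInvertible a)).1 i hi
    rw [Module.finrank_zero_of_subsingleton, Nat.cast_zero]
    positivity

end Groth.Agent.MultiGrowth43
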